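import Groth.Agent.H16Derived.KFlat.PerfTilde
import Groth.Agent.H4DR.Dualizing.Loci
import Groth.Agent.H8Props.CMAt
import Groth.Prelude.Def_DualSch
import Mathlib.AlgebraicGeometry.Noetherian

/-!
# The Cohen–Macaulay locus of a scheme with a dualizing complex
-/

set_option autoImplicit false
set_option linter.style.haveILetI false
set_option linter.unusedSectionVars false
universe u

open CategoryTheory CategoryTheory.Limits AlgebraicGeometry Pretriangulated
open Groth.Agent.H4DR.Ext (Ex)

attribute [local instance] HasDerivedCategory.standard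

namespace Groth.Agent.H4DualSch

section Restrict

variable {U X : Scheme.{u}} (j : U ⟶ X) [IsOpenImmersion j] [PreservesFiniteLimits (Scheme.Modules.restrictFunctor j)]

instance : PreservesFiniteColimits (Scheme.Modules.restrictFunctor j) :=
  haveI := (Scheme.Modules.restrictAdjunction j).isLeftAdjoint
  PreservesColimitsOfSize.preservesFiniteColimits.{0, 0} _

/-- Cohomology sheaves commute with restriction to an open. -/
noncomputable def hdRestrict (K : DCoh.D X) (i : ℤ) :
    DCoh.HD ((DCoh.restrictD j).obj K) i ≅ (Scheme.Modules.restrictFunctor j).obj (DCoh.HD K i) :=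
  (DerivedCategory.homologyFunctor _ i).mapIso
      ((DCoh.restrictD j).mapIso (DerivedCategory.Q.objObjPreimageIso K).symm ≪≫
        (Scheme.Modules.restrictFunctor j).mapDerivedCategoryFactors.app _) ≪≫
    (DerivedCategory.homologyFunctorFactors _ i).app _ ≪≫
    ((DerivedCategory.Q.objPreimage K).sc i).mapHomologyIso (Scheme.Modules.restrictFunctor j) ≪≫
    (Scheme.Modules.restrictFunctor j).mapIso (((DerivedCategory.homologyFunctorFactors _ i).app _).symm ≪≫
      (DerivedCategory.homologyFunctor _ i).mapIso (DerivedCategory.Q.objObjPreimageIso K))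

/-- Nontriviality of a stalk of a cohomology sheaf is local. -/
theorem nontrivial_stalk_restrict_iff (M : X.Modules) (x : U) :
    Nontrivial (((Scheme.Modules.restrictFunctor j).obj M).presheaf.stalk x) ↔
      Nontrivial (M.presheaf.stalk (j.base x)) :=
  ((Scheme.Modules.restrictStalkNatIso j x).app M).addCommGroupIsoToAddEquiv.toEquiv.nontrivial_congr

end Restrict

theorem nontrivial_stalk_congr {X : Scheme.{u}} {M N : X.Modules} (e : M ≅ N) (x : X) :
    Nontrivial (M.presheaf.stalk x) ↔ Nontrivial (N.presheaf.stalk x) :=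
  ((Scheme.Modules.toPresheaf X ⋙ TopCat.Presheaf.stalkFunctor _ x).mapIso e).addCommGroupIsoToAddEquiv.toEquiv.nontrivial_congr

theorem nontrivial_stalk_tilde_iff (R : CommRingCat.{u}) (N : ModuleCat.{u} R) (p : PrimeSpectrum.Top R) :
    Nontrivial ((tilde N).presheaf.stalk p) ↔ p ∈ Module.support R N := by
  haveI : p.asIdeal.IsPrime := p.isPrime
  refine Iff.trans ?_ (Module.mem_support_iff (R := R) (M := N) (p := (p : PrimeSpectrum R))).symm
  exact (IsLocalizedModule.iso p.asIdeal.primeCompl (tilde.toStalk N p).hom).toEquiv.symm.nontrivial_congr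

variable {X : Scheme.{u}} [IsLocallyNoetherian X]
  [∀ (U : Scheme.{u}) (j : U ⟶ X) [IsOpenImmersion j], PreservesFiniteLimits (Scheme.Modules.restrictFunctor j)]
  [∀ (R : CommRingCat.{u}), PreservesFiniteLimits (tilde.functor R)]

omit [IsLocallyNoetherian X] in
/-- The stalk of a cohomology sheaf on an affine chart. -/
theorem nontrivial_stalk_HD_iff {A : Type u} [CommRing A] (j : Spec (CommRingCat.of A) ⟶ X) [IsOpenImmersion j]
    (K : DCoh.D X) (ω : Dual.D A) (e : (DCoh.restrictD j).obj K ≅ (DCoh.tildeD (CommRingCat.of A)).obj ω)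
    (p : PrimeSpectrum A) (i : ℤ) :
    Nontrivial ((DCoh.HD K i).presheaf.stalk (j.base p)) ↔ p ∈ Module.support A (Dual.HD A ω i) := by
  rw [← nontrivial_stalk_restrict_iff j (DCoh.HD K i) p,
    ← nontrivial_stalk_congr (hdRestrict j K i) p,
    nontrivial_stalk_congr ((DerivedCategory.homologyFunctor _ i).mapIso e ≪≫
      H16Derived.KFlat.Stalk.hdTilde ω i) p]
  exact nontrivial_stalk_tilde_iff (CommRingCat.of A) _ p

omit [∀ (U : Scheme.{u}) (j : U ⟶ X) [IsOpenImmersion j], PreservesFiniteLimits (Scheme.Modules.restrictFunctor j)]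
  [∀ (R : CommRingCat.{u}), PreservesFiniteLimits (tilde.functor R)] in
theorem isNoetherianRing_chart {A : Type u} [CommRing A] (j : Spec (CommRingCat.of A) ⟶ X) [IsOpenImmersion j] :
    IsNoetherianRing A :=
  isLocallyNoetherian_Spec.1 (isLocallyNoetherian_of_isOpenImmersion j)

omit [IsLocallyNoetherian X] [∀ (U : Scheme.{u}) (j : U ⟶ X) [IsOpenImmersion j], PreservesFiniteLimits (Scheme.Modules.restrictFunctor j)]
  [∀ (R : CommRingCat.{u}), PreservesFiniteLimits (tilde.functor R)] in
/-- The local ring at a point of an affine chart. -/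
theorem exists_stalk_ringEquiv {A : Type u} [CommRing A] (j : Spec (CommRingCat.of A) ⟶ X) [IsOpenImmersion j]
    (p : PrimeSpectrum A) : Nonempty (Localization.AtPrime p.asIdeal ≃+* X.presheaf.stalk (j.base p)) :=
  ⟨(IsLocalization.algEquiv p.asIdeal.primeCompl (Localization.AtPrime p.asIdeal)
      ((Spec.structureSheaf A).presheaf.stalk p)).toRingEquiv.trans
    (@asIso _ _ _ _ (j.stalkMap (show (Spec (CommRingCat.of A)) from p)) inferInstance).commRingCatIsoToRingEquiv.symm⟩

omit [IsLocallyNoetherian X] [∀ (U : Scheme.{u}) (j : U ⟶ X) [IsOpenImmersion j], PreservesFiniteLimits (Scheme.Modules.restrictFunctor j)]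
  [∀ (R : CommRingCat.{u}), PreservesFiniteLimits (tilde.functor R)] in
theorem isCM_stalk_iff {A : Type u} [CommRing A] (j : Spec (CommRingCat.of A) ⟶ X) [IsOpenImmersion j]
    (p : PrimeSpectrum A) : LocCoh.IsCohenMacaulayLocalRing (X.presheaf.stalk (j.base p)) ↔
      LocCoh.IsCohenMacaulayLocalRing (Localization.AtPrime p.asIdeal) := by
  obtain ⟨e⟩ := exists_stalk_ringEquiv j p
  exact ⟨fun _ => H8Props.CMAt.isCohenMacaulayLocalRing_of_ringEquiv e.symm,
    fun _ => H8Props.CMAt.isCohenMacaulayLocalRing_of_ringEquiv e⟩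

/-- Cohen–Macaulay iff exactly one cohomology module survives. -/
theorem cm_iff_existsUnique {A : Type u} [CommRing A] [IsNoetherianRing A] {ω : Dual.D A}
    (hω : Dual.IsDualizing A ω) (p : PrimeSpectrum A) :
    LocCoh.IsCohenMacaulayLocalRing (Localization.AtPrime p.asIdeal) ↔
      ∃! i : ℤ, p ∈ Module.support A (Dual.HD A ω i) := by
  have hs : ∀ i : ℤ, p ∈ H4DR.Dualizing.supEx ω A i ↔ p ∈ Module.support A (Dual.HD A ω i) := fun i => by
    rw [show H4DR.Dualizing.supEx ω A i = _ from (H4DR.Ext.evalEquiv ω i).support_eq]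
  rw [H4DR.Dualizing.cmLocalRing_iff, H4DR.Dualizing.cm_or_zero_iff hω A]
  simp only [hs]
  refine ⟨fun h => ?_, fun h i j hi hj => h.unique hi hj⟩
  have hp : p ∈ Module.support A A := by
    rw [Module.mem_support_iff_of_finite, Module.annihilator_eq_bot.2 inferInstance]
    exact bot_le
  obtain ⟨δ, D, -, -, -, h1, -, -⟩ := H4DR.Dualizing.exists_interval hω A p hp
  exact ⟨_, (hs _).1 h1, fun i hi => h i _ hi ((hs _).1 h1)⟩

end Groth.Agent.H4DualSch
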